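import Mathlib.Algebra.Module.PID
import Mathlib.FieldTheory.Finite.Basic
import Mathlib.FieldTheory.Separable
import Mathlib.Algebra.Polynomial.Module.AEval
import Mathlib.LinearAlgebra.FiniteDimensional.Basic
import Mathlib.RingTheory.Nilpotent.Lemmas

/-!
# A semisimple linear map over a finite field is conjugate to its Frobenius power

`exists_frob` : `g ^ N = 1`, `N ≠ 0` in `F`, `q = |F|`: there is a linear equivalence `x` with `x g = g ^ q x`.
-/

set_option autoImplicit false

namespace Cfsg.Agent.H976.ZOmFrob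

open Polynomial DirectSum

universe u

section Mod

variable {F : Type u} [Field F] [Fintype F] {M : Type u} [AddCommGroup M] [Module F[X] M] [Module.Finite F[X] M]

/-- Frobenius on a module over `F[X]` killed by `X ^ N - 1` -/
theorem exists_frob_mod {N : ℕ} (hN : (N : F) ≠ 0) (hM : ∀ m : M, ((X : F[X]) ^ N - 1) • m = 0) :
    ∃ x : M →+ M, Function.Injective x ∧ ∀ (P : F[X]) (m : M), x (P • m) = P ^ Fintype.card F • x m := by
  have hsq : Squarefree ((X : F[X]) ^ N - 1) := ((X_pow_sub_one_separable_iff).2 hN).squarefree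
  have hne : ((X : F[X]) ^ N - 1) ≠ 0 := hsq.ne_zero
  have htor : Module.IsTorsion F[X] M := fun {m} =>
    ⟨⟨(X : F[X]) ^ N - 1, mem_nonZeroDivisors_of_ne_zero hne⟩, hM m⟩
  classical
  obtain ⟨ι, _, p, hp, e, ⟨f⟩⟩ := Module.equiv_directSum_of_isTorsion htor
  have hdvd : ∀ i, p i ^ e i ∣ (X : F[X]) ^ N - 1 := by
    intro i
    have h1 : ((X : F[X]) ^ N - 1) • (DirectSum.of (fun i => F[X] ⧸ Submodule.span F[X] {p i ^ e i}) i
        (Submodule.Quotient.mk 1)) = 0 := by
      obtain ⟨m, hm⟩ := f.surjective (DirectSum.of (fun i => F[X] ⧸ Submodule.span F[X] {p i ^ e i}) i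
        (Submodule.Quotient.mk 1))
      rw [← hm, ← map_smul, hM, map_zero]
    have h2 := congrArg (fun d => d i) h1
    simp only [DirectSum.smul_apply, DirectSum.of_eq_same, DirectSum.zero_apply] at h2
    rw [← Submodule.Quotient.mk_smul, Submodule.Quotient.mk_eq_zero, smul_eq_mul, mul_one] at h2
    exact Ideal.mem_span_singleton.1 h2
  have hred : ∀ i, IsReduced (F[X] ⧸ Ideal.span {p i ^ e i}) := by
    intro i
    rw [← Ideal.isRadical_iff_quotient_reduced, ← isRadical_iff_span_singleton]
    exact (hsq.squarefree_of_dvd (hdvd i)).isRadical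
  let φ : ∀ i, (F[X] ⧸ Submodule.span F[X] {p i ^ e i}) →+ (F[X] ⧸ Submodule.span F[X] {p i ^ e i}) := fun i =>
    ((FiniteField.frobeniusAlgHom F (F[X] ⧸ Ideal.span {p i ^ e i})).toRingHom : _ →+ _)
  have hφi : ∀ i, Function.Injective (φ i) := by
    intro i
    rw [injective_iff_map_eq_zero]
    intro a ha
    have h1 : (a : F[X] ⧸ Ideal.span {p i ^ e i}) ^ Fintype.card F = 0 := ha
    have := hred i
    exact (pow_eq_zero_iff (Fintype.card_ne_zero)).1 h1
  have hφ : ∀ i (P : F[X]) y, φ i (P • y) = P ^ Fintype.card F • φ i y := by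
    intro i P y
    obtain ⟨y, rfl⟩ := Ideal.Quotient.mk_surjective y
    have h1 : ∀ z : F[X] ⧸ Ideal.span {p i ^ e i}, φ i z = z ^ Fintype.card F := fun _ => rfl
    have h2 : ∀ (P : F[X]) (z : F[X] ⧸ Ideal.span {p i ^ e i}), P • z = Ideal.Quotient.mk _ P * z := by
      intro P z
      obtain ⟨z, rfl⟩ := Ideal.Quotient.mk_surjective z
      rfl
    rw [h1, h1, h2, h2, mul_pow, map_pow]
  let Φ : (⨁ i, F[X] ⧸ Submodule.span F[X] {p i ^ e i}) →+ (⨁ i, F[X] ⧸ Submodule.span F[X] {p i ^ e i}) :=
    DFinsupp.mapRange.addMonoidHom φ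
  refine ⟨(f.symm.toAddEquiv.toAddMonoidHom.comp Φ).comp f.toAddEquiv.toAddMonoidHom, ?_, ?_⟩
  · refine f.symm.injective.comp (Function.Injective.comp ?_ f.injective)
    intro a b hab
    ext i
    exact hφi i (DFunLike.congr_fun hab i)
  · intro P m
    change f.symm (Φ (f (P • m))) = P ^ Fintype.card F • f.symm (Φ (f m))
    rw [← map_smul, map_smul]
    congr 1
    ext i
    exact hφ i P _

end Mod

variable {F : Type u} [Field F] [Fintype F] {V : Type u} [AddCommGroup V] [Module F V] [FiniteDimensional F V]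

/-- **A semisimple map is conjugate to its Frobenius power.** -/
theorem exists_frob (g : Module.End F V) {N : ℕ} (hN : (N : F) ≠ 0) (hg : g ^ N = 1) :
    ∃ x : V ≃ₗ[F] V, ∀ v, x (g v) = (g ^ Fintype.card F) (x v) := by
  obtain ⟨x, hx, hP⟩ := exists_frob_mod (F := F) (M := Module.AEval' g) hN (by
    intro m
    obtain ⟨m, rfl⟩ := (Module.AEval'.of g).surjective m
    rw [sub_smul, one_smul, Module.AEval'.X_pow_smul_of, hg, one_smul, sub_self])
  let o := Module.AEval'.of g
  have hfin : Finite V := Module.finite_of_finite F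
  let y : V →ₗ[F] V :=
    { toFun := fun v => o.symm (x (o v))
      map_add' := fun v w => by rw [map_add, map_add, map_add]
      map_smul' := fun c v => by
        rw [map_smul, RingHom.id_apply, ← Module.AEval.C_smul, hP, ← map_pow, FiniteField.pow_card,
          Module.AEval.C_smul, map_smul] }
  have hy : Function.Injective y := o.symm.injective.comp (hx.comp o.injective)
  refine ⟨LinearEquiv.ofBijective y (Finite.injective_iff_bijective.1 hy), fun v => ?_⟩
  change o.symm (x (o (g v))) = (g ^ Fintype.card F) (o.symm (x (o v)))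
  apply o.injective
  have h1 := Module.AEval'.X_pow_smul_of g (o.symm (x (o v))) (Fintype.card F)
  have h2 : (Module.AEval'.of g) (o.symm (x (o v))) = x (o v) := o.apply_symm_apply _
  rw [h2] at h1
  have h3 : o (g v) = (X : F[X]) • o v := (Module.AEval'.X_smul_of g v).symm
  rw [LinearEquiv.apply_symm_apply, h3, hP, h1]
  rfl

end Cfsg.Agent.H976.ZOmFrob
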